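import Groth.Agent.H19Grp.ImageFactor
import Groth.Agent.H12AlgSp.UnivInj
import Groth.Agent.H18Descent.Basic

/-! Homomorphisms of group schemes with proper kernel are proper, over an Artinian local base. -/

set_option autoImplicit false
set_option linter.style.haveILetI false
set_option backward.isDefEq.respectTransparency false

universe u

open CategoryTheory CategoryTheory.Limits MonoidalCategory CartesianMonoidalCategory MonObj GrpObj
  AlgebraicGeometry

namespace Groth.Agent.H14ProperHom

/-- The self-product of a homomorphism inherits every base change stable property of the kernel. -/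
theorem fst_self_of_kernel {P : MorphismProperty Scheme.{u}} [P.IsStableUnderBaseChange]
    {S : Scheme.{u}} {G H : Over S} [GrpObj G] [GrpObj H] (f : G ⟶ H) [IsMonHom f]
    (hN : P (pullback.snd f.left (η[H]).left)) : P (pullback.fst f.left f.left) := by
  let T : Over S := Over.mk (pullback.fst f.left f.left ≫ G.hom)
  let N : Over S := Over.mk (pullback.snd f.left (η[H]).left)
  have hN' : pullback.fst f.left (η[H]).left ≫ G.hom = pullback.snd f.left (η[H]).left := by
    rw [← Over.w f, reassoc_of% (pullback.condition (f := f.left) (g := (η[H]).left)), Over.w η[H]]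
    exact Category.comp_id _
  let j : N ⟶ G := Over.homMk (pullback.fst f.left (η[H]).left) hN'
  have hj : j ≫ f = 1 := Over.OverMorphism.ext (pullback.condition.trans (H19Grp.one_left N).symm)
  haveI : IsSplitMono (η[H]).left := ⟨⟨⟨H.hom, Over.w η[H]⟩⟩⟩
  haveI : Mono j.left := inferInstanceAs (Mono (pullback.fst f.left (η[H]).left))
  haveI : Mono j := Over.mono_of_mono_left j
  have hwb : pullback.snd f.left f.left ≫ G.hom = pullback.fst f.left f.left ≫ G.hom := by
    rw [← Over.w f, ← Category.assoc, ← Category.assoc, pullback.condition]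
  let a : T ⟶ G := Over.homMk (pullback.fst f.left f.left)
  let b : T ⟶ G := Over.homMk (pullback.snd f.left f.left) hwb
  have hab : a ≫ f = b ≫ f := Over.OverMorphism.ext pullback.condition
  have hm : (a⁻¹ * b) ≫ f = 1 := by
    rw [MonObj.mul_comp, GrpObj.inv_comp, hab, inv_mul_cancel]
  let ν : T ⟶ N := Over.homMk (pullback.lift (a⁻¹ * b).left T.hom
    ((congrArg (·.left) hm).trans (H19Grp.one_left T))) (pullback.lift_snd _ _ _)
  have hν : ν ≫ j = a⁻¹ * b := Over.OverMorphism.ext (pullback.lift_fst _ _ _)
  let y : G ⊗ N ⟶ G := fst G N * (snd G N ≫ j)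
  have hy : y ≫ f = fst G N ≫ f := by
    rw [MonObj.mul_comp, Category.assoc, hj, MonObj.comp_one, _root_.mul_one]
  let Ψ : G ⊗ N ⟶ T := Over.homMk (pullback.lift (fst G N).left y.left (congrArg (·.left) hy.symm)) (by
    show pullback.lift _ _ _ ≫ pullback.fst _ _ ≫ G.hom = _
    rw [pullback.lift_fst_assoc]
    exact Over.w (fst G N))
  have hΨa : Ψ ≫ a = fst G N := Over.OverMorphism.ext (pullback.lift_fst _ _ _)
  have hΨb : Ψ ≫ b = y := Over.OverMorphism.ext (pullback.lift_snd _ _ _)
  haveI : IsIso Ψ := ⟨lift a ν, by
    apply CartesianMonoidalCategory.hom_ext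
    · rw [Category.assoc, lift_fst, hΨa, Category.id_comp]
    · rw [Category.assoc, lift_snd, Category.id_comp, ← cancel_mono j, Category.assoc, hν,
        MonObj.comp_mul, GrpObj.comp_inv, hΨa, hΨb, inv_mul_cancel_left], by
    refine Over.OverMorphism.ext (pullback.hom_ext ?_ ?_)
    · exact congrArg (·.left) (show (lift a ν ≫ Ψ) ≫ a = 𝟙 T ≫ a by
        rw [Category.assoc, hΨa, lift_fst, Category.id_comp])
    · exact congrArg (·.left) (show (lift a ν ≫ Ψ) ≫ b = 𝟙 T ≫ b by
        rw [Category.assoc, hΨb, MonObj.comp_mul, lift_fst, ← Category.assoc, lift_snd, hν,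
          mul_inv_cancel_left, Category.id_comp])⟩
  haveI : IsIso Ψ.left := inferInstanceAs (IsIso ((Over.forget _).map Ψ))
  rw [← MorphismProperty.cancel_left_of_respectsIso P Ψ.left]
  show P (pullback.lift _ _ _ ≫ pullback.fst _ _)
  rw [pullback.lift_fst]
  exact P.pullback_fst G.hom N.hom hN

variable {K : Type u} [Field K] {G H : Over (Spec (CommRingCat.of K))} [GrpObj G] [GrpObj H]
  [LocallyOfFiniteType G.hom] [LocallyOfFiniteType H.hom] (f : G ⟶ H) [IsMonHom f] [QuasiCompact f.left]

/-- Over a field, a quasi-compact homomorphism with proper self-product is proper. -/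
theorem isProper_field (h : IsProper (pullback.fst f.left f.left)) : IsProper f.left := by
  obtain ⟨C, _, p, i, _, _, hpi, hflat, hsurj, -, hi, -, hqc⟩ :=
    H19Grp.ImageFactor.exists_image_factor G H f (H12AlgSp.flat_to_field _)
  have hl : p.left ≫ i.left = f.left := congrArg (·.left) hpi
  haveI := hi
  have hp : IsProper (pullback.fst p.left p.left) := by
    have hsq : IsPullback (pullback.fst f.left f.left) (pullback.snd f.left f.left) p.left p.left := by
      refine IsPullback.of_isLimit' ⟨?_⟩ ?_
      · rw [← cancel_mono i.left, Category.assoc, Category.assoc, hl, pullback.condition]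
      · refine PullbackCone.IsLimit.mk _
          (fun s => pullback.lift s.fst s.snd (by rw [← hl, s.condition_assoc]))
          (fun s => pullback.lift_fst _ _ _) (fun s => pullback.lift_snd _ _ _) fun s m h1 h2 => ?_
        exact pullback.hom_ext (h1.trans (pullback.lift_fst _ _ _).symm) (h2.trans (pullback.lift_snd _ _ _).symm)
    rw [← hsq.isoPullback_inv_fst]
    exact MorphismProperty.RespectsIso.precomp @IsProper _ _ h
  have hq : H18Descent.fpqc.{u} p.left := ⟨⟨hsurj, hflat⟩, hqc⟩
  haveI : IsProper p.left :=
    MorphismProperty.of_pullback_fst_of_descendsAlong (P := @IsProper) (Q := H18Descent.fpqc.{u}) hq hp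
  rw [← hl]
  infer_instance

omit f

/-- A quasi-compact homomorphism with proper kernel, over an Artinian local ring, is proper. -/
theorem isProper_of_kernel {A : Type u} [CommRing A] [IsArtinianRing A] [IsLocalRing A]
    {G H : Over (Spec (CommRingCat.of A))} [GrpObj G] [GrpObj H] [LocallyOfFiniteType G.hom]
    [LocallyOfFiniteType H.hom] (f : G ⟶ H) [IsMonHom f] [QuasiCompact f.left]
    (hN : IsProper (pullback.snd f.left (η[H]).left)) : IsProper f.left := by
  have h := fst_self_of_kernel (P := @IsProper) f hN
  let r := Spec.map (CommRingCat.ofHom (IsLocalRing.residue A))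
  haveI : IsLocallyNoetherian H.left := LocallyOfFiniteType.isLocallyNoetherian H.hom
  haveI : Surjective r := H19Grp.ArtinHom.surjective_residue
  haveI : IsClosedImmersion r := IsClosedImmersion.spec_of_surjective _ IsLocalRing.residue_surjective
  let F := Over.pullback r
  letI : GrpObj (F.obj G) := Functor.grpObjObj
  letI : GrpObj (F.obj H) := Functor.grpObjObj
  haveI : LocallyOfFiniteType (F.obj G).hom := inferInstanceAs (LocallyOfFiniteType (pullback.snd G.hom r))
  haveI : LocallyOfFiniteType (F.obj H).hom := inferInstanceAs (LocallyOfFiniteType (pullback.snd H.hom r))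
  have hp := H19Grp.ArtinHom.isPullback_residue f
  haveI : QuasiCompact (F.map f).left := MorphismProperty.of_isPullback hp ‹_›
  have h1 : IsProper (pullback.fst (F.map f).left (F.map f).left) := by
    have hb : IsPullback (pullback.snd (F.map f).left (F.map f).left ≫ pullback.fst G.hom r)
        (pullback.fst (F.map f).left (F.map f).left) f.left (pullback.fst G.hom r ≫ f.left) := by
      have := (IsPullback.of_hasPullback (F.map f).left (F.map f).left).flip.paste_horiz hp
      rwa [← hp.w] at this
    have hb2 := IsPullback.of_right (h₁₂ := pullback.snd f.left f.left) (h₂₂ := f.left) (v₁₂ := pullback.fst f.left f.left)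
      (h₁₁ := pullback.lift (pullback.fst (F.map f).left (F.map f).left ≫ pullback.fst G.hom r)
        (pullback.snd (F.map f).left (F.map f).left ≫ pullback.fst G.hom r)
        (by rw [Category.assoc, ← hb.w]))
      (h₂₁ := pullback.fst G.hom r) (v₁₁ := pullback.fst (F.map f).left (F.map f).left) (v₁₃ := f.left)
      (by rw [pullback.lift_snd]; exact hb) (pullback.lift_fst _ _ _)
      (IsPullback.of_hasPullback f.left f.left).flip
    exact MorphismProperty.of_isPullback hb2 h
  haveI := isProper_field (F.map f) h1
  exact H24FSch.isProper_of_thickening hp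

end Groth.Agent.H14ProperHom
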